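import Mathlib

/-!
# Equivariant choices (helper207)

`exists_equivariant` : if every `x` has a good `b` fixed by the stabiliser of `x` and goodness is invariant, there is an
equivariant choice.
-/

set_option autoImplicit false

namespace Cfsg.Agent.H207.RV

theorem exists_equivariant {P Ω B : Type*} [Group P] [MulAction P Ω] [MulAction P B] (good : Ω → B → Prop)
    (hgood : ∀ (p : P) (x : Ω) (b : B), good x b → good (p • x) (p • b))
    (h : ∀ x : Ω, ∃ b : B, good x b ∧ ∀ p : P, p • x = x → p • b = b) :
    ∃ f : Ω → B, (∀ x, good x (f x)) ∧ ∀ (p : P) (x : Ω), f (p • x) = p • f x := by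
  classical
  choose b hb hfix using h
  let rep : Ω → Ω := fun x => (Quotient.mk (MulAction.orbitRel P Ω) x).out
  have hrep : ∀ x, ∃ p : P, p • rep x = x := by
    intro x
    have h1 : (MulAction.orbitRel P Ω) (rep x) x := Quotient.mk_out (s := MulAction.orbitRel P Ω) x
    have h2 : (MulAction.orbitRel P Ω) x (rep x) := (MulAction.orbitRel P Ω).symm h1
    rw [MulAction.orbitRel_apply, MulAction.mem_orbit_iff] at h2
    exact h2
  have hrep' : ∀ (p : P) x, rep (p • x) = rep x := by
    intro p x
    have h1 : Quotient.mk (MulAction.orbitRel P Ω) (p • x) = Quotient.mk (MulAction.orbitRel P Ω) x := by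
      apply Quotient.sound
      show (MulAction.orbitRel P Ω) (p • x) x
      rw [MulAction.orbitRel_apply]
      exact MulAction.mem_orbit x p
    show (Quotient.mk (MulAction.orbitRel P Ω) (p • x)).out = _
    rw [h1]
  choose p hp using hrep
  refine ⟨fun x => p x • b (rep x), ?_, ?_⟩
  · intro x
    have h1 := hgood (p x) (rep x) (b (rep x)) (hb _)
    rwa [hp] at h1
  · intro g x
    have h1 : ((p (g • x))⁻¹ * g * p x) • rep x = rep x := by
      rw [mul_smul, mul_smul, hp x, inv_smul_eq_iff]
      have h2 := hp (g • x)
      rw [hrep'] at h2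
      exact h2.symm
    have h2 := hfix (rep x) _ h1
    rw [mul_smul, mul_smul, inv_smul_eq_iff] at h2
    show p (g • x) • b (rep (g • x)) = g • p x • b (rep x)
    rw [hrep', h2]

end Cfsg.Agent.H207.RV
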