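import Cfsg.Agent.H207.RV.Ext
import Cfsg.Agent.H961.CompFac

/-!
# TEAM RV, pieces A6 and A7: the assembly of S4322 and S3850 (helper207)

The two missing abstract pieces are hypotheses: `hquot` (A2) and `hDB` (A3).

* `dom_main` : `Dom π G ↔ Dom π A ∧ Dom π (G ⧸ A)` from the rows `RowN`, `RowE` of the simple groups;
* `dom_comp` : `Dom π G ↔` all nonabelian composition factors satisfy `Dom π`.
-/

set_option autoImplicit false

namespace Cfsg.Agent.H207.RV

open Subgroup Cfsg Cfsg.Agent.H988.CPi Cfsg.Agent.H571.DExt Cfsg.Agent.H571.RV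
open Cfsg.Agent.Lib.MinNormal Cfsg.Agent.Lib.MinNormalNonabelian
open scoped Pointwise

universe u

/-- A2 -/
def QuotP (π : Set ℕ) : Prop :=
  ∀ (G : Type u) [Group G] [Finite G] (A : Subgroup G) [A.Normal], Dom π G → Dom π (G ⧸ A)

/-- A3 -/
def DBP (π : Set ℕ) : Prop :=
  ∀ (G : Type u) [Group G] [Finite G] (N : Subgroup G) [N.Normal],
    (∀ M : Subgroup G, M.Normal → M ≤ N → M = ⊥ ∨ M = N) → (¬ ∀ x ∈ N, ∀ y ∈ N, Commute x y) →
    Dom π G → ∀ T ∈ minSet N, DB π T

/-- the rows of the simple groups -/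
def Rows (π : Set ℕ) : Prop :=
  ∀ (S : Type u) [Group S] [Finite S] [IsSimpleGroup S], (∃ a b : S, a * b ≠ b * a) → RowN π S ∧ RowE π S

variable {π : Set ℕ}

theorem dom_of_card_one {G : Type*} [Group G] (h : Nat.card G = 1) : Dom π G := by
  refine ⟨⊤, ⟨?_, ?_⟩, fun K _ => ⟨1, by simp⟩⟩
  · intro p hp hd
    rw [Subgroup.card_top, h] at hd
    exact absurd (Nat.dvd_one.mp hd) hp.one_lt.ne'
  · intro p hp _ hd
    rw [Subgroup.index_top] at hd
    exact absurd (Nat.dvd_one.mp hd) hp.one_lt.ne'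

section

variable {G : Type u} [Group G] [Finite G]

/-- a minimal normal subgroup inside `A` -/
theorem exists_minimal_le (A : Subgroup G) [A.Normal] (hA : A ≠ ⊥) :
    ∃ N : Subgroup G, N.Normal ∧ N ≠ ⊥ ∧ N ≤ A ∧ ∀ M : Subgroup G, M.Normal → M ≤ N → M = ⊥ ∨ M = N := by
  have hfin : {T : Subgroup G | T.Normal ∧ T ≠ ⊥ ∧ T ≤ A}.Finite := Set.toFinite _
  obtain ⟨T, ⟨hTn, hT0, hTA⟩, hTmin⟩ := hfin.exists_minimal ⟨A, inferInstance, hA, le_rfl⟩
  refine ⟨T, hTn, hT0, hTA, fun M hM hMT => ?_⟩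
  by_cases hS0 : M = ⊥
  · exact Or.inl hS0
  · exact Or.inr (le_antisymm hMT (hTmin ⟨hM, hS0, hMT.trans hTA⟩ hMT))

theorem card_quot_lt (N : Subgroup G) [N.Normal] (hN : N ≠ ⊥) : Nat.card (G ⧸ N) < Nat.card G := by
  have h1 := N.card_mul_index
  have h3 : Nat.card (G ⧸ N) = N.index := rfl
  rw [h3]
  have h4 : 1 < Nat.card N := by
    rcases Nat.lt_or_ge 1 (Nat.card N) with h | h
    · exact h
    · exact absurd (card_eq_one.mp (le_antisymm h Nat.card_pos)) hN
  have h5 : 0 < N.index := Nat.pos_of_ne_zero index_ne_zero_of_finite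
  nlinarith

theorem card_lt_of_ne_top (A : Subgroup G) (hA : A ≠ ⊤) : Nat.card A < Nat.card G :=
  lt_of_le_of_ne (Nat.le_of_dvd Nat.card_pos (card_subgroup_dvd_card A)) fun h => hA (eq_top_of_card_eq A h)

/-- `(A / N) ≃ image of `A` in `G / N` -/
noncomputable def quotMap (A N : Subgroup G) [N.Normal] :
    (A ⧸ N.subgroupOf A) ≃* A.map (QuotientGroup.mk' N) := by
  have hk : ((QuotientGroup.mk' N).subgroupMap A).ker = N.subgroupOf A := by
    ext x
    rw [MonoidHom.mem_ker, mem_subgroupOf, Subtype.ext_iff]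
    exact QuotientGroup.eq_one_iff (x : G)
  exact (QuotientGroup.quotientMulEquivOfEq hk.symm).trans
    (QuotientGroup.quotientKerEquivOfSurjective _ ((QuotientGroup.mk' N).subgroupMap_surjective A))

end

/-- **A6** -/
theorem dom_main_aux (hquot : QuotP.{u} π) (hDB : DBP.{u} π) (hrow : Rows.{u} π) (n : ℕ) :
    ∀ (G : Type u) [Group G] [Finite G], Nat.card G = n → ∀ (A : Subgroup G) [A.Normal],
      (Dom π G → Dom π A) ∧ (Dom π A → Dom π (G ⧸ A) → Dom π G) := by
  induction n using Nat.strong_induction_on with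
  | _ n ih =>
    intro G _ _ hn A hA
    by_cases hA1 : A = ⊥
    · subst hA1
      refine ⟨fun _ => dom_of_card_one Subgroup.card_bot, fun _ h => ?_⟩
      exact dom_of_equiv (QuotientGroup.quotientBot (G := G)) h
    by_cases hA2 : A = ⊤
    · subst hA2
      exact ⟨fun h => dom_of_equiv (Subgroup.topEquiv (G := G)).symm h,
        fun h _ => dom_of_equiv (Subgroup.topEquiv (G := G)) h⟩
    obtain ⟨N, hNn, hN1, hNA, hmin⟩ := exists_minimal_le A hA1
    have hAlt := card_lt_of_ne_top A hA2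
    have hNlt := card_quot_lt N hN1
    have hAN : (A.map (QuotientGroup.mk' N)).Normal :=
      Normal.map inferInstance _ (QuotientGroup.mk'_surjective N)
    refine ⟨fun hG => ?_, fun hDA hDQ => ?_⟩
    · -- `G → A`
      have hNdom : Dom π N := by
        refine dom_min_of_factors N hN1 hmin fun T hT hTna hTm => ?_
        have hab : ¬ ∀ x ∈ N, ∀ y ∈ N, Commute x y := by
          intro hab
          obtain ⟨a, b, hab'⟩ := hTna
          exact hab' (Subtype.ext (hab a (hTm.1 a.2) b (hTm.1 b.2)))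
        have h1 := hDB G N hmin hab hG T hTm
        exact h1.to_dom ((hrow T hTna).1 h1)
      have hQ : Dom π (G ⧸ N) := hquot G N hG
      have hAQ : Dom π (A.map (QuotientGroup.mk' N)) := (ih _ (hn ▸ hNlt) (G ⧸ N) rfl _).1 hQ
      refine (ih _ (hn ▸ hAlt) A rfl (N.subgroupOf A)).2 ?_ ?_
      · exact dom_of_equiv (subgroupOfEquivOfLe hNA).symm hNdom
      · exact dom_of_equiv (quotMap A N).symm hAQ
    · -- `A, G / A → G`
      have hNdom : Dom π N :=
        dom_of_equiv (subgroupOfEquivOfLe hNA) ((ih _ (hn ▸ hAlt) A rfl (N.subgroupOf A)).1 hDA)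
      have hAQ : Dom π (A.map (QuotientGroup.mk' N)) := dom_of_equiv (quotMap A N) (hquot A (N.subgroupOf A) hDA)
      have hQ : Dom π (G ⧸ N) := by
        refine (ih _ (hn ▸ hNlt) (G ⧸ N) rfl (A.map (QuotientGroup.mk' N))).2 hAQ ?_
        exact dom_of_equiv (QuotientGroup.quotientQuotientEquivQuotient N A hNA).symm hDQ
      exact dom_ext_minimal N hN1 hmin hNdom hQ fun T hT hTna => (hrow T hTna).2

/-- **A6** : `D_π` is closed under normal subgroups, quotients and extensions. -/
theorem dom_main (hquot : QuotP.{u} π) (hDB : DBP.{u} π) (hrow : Rows.{u} π) {G : Type u} [Group G] [Finite G]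
    (A : Subgroup G) [A.Normal] : Dom π G ↔ Dom π A ∧ Dom π (G ⧸ A) :=
  ⟨fun h => ⟨(dom_main_aux hquot hDB hrow _ G rfl A).1 h, hquot G A h⟩,
    fun h => (dom_main_aux hquot hDB hrow _ G rfl A).2 h.1 h.2⟩

theorem dom_subnormal (hquot : QuotP.{u} π) (hDB : DBP.{u} π) (hrow : Rows.{u} π) {G : Type u} [Group G] [Finite G]
    (hG : Dom π G) {H : Subgroup G} (hH : H.IsSubnormal) : Dom π H := by
  induction hH with
  | top => exact dom_of_equiv (Subgroup.topEquiv (G := G)).symm hG
  | step H K hHK hK hn ih =>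
    have := hn
    exact dom_of_equiv (subgroupOfEquivOfLe hHK) ((dom_main hquot hDB hrow (G := K) (H.subgroupOf K)).mp ih).1

theorem dom_of_piN {G : Type*} [Group G] (h : PiN π (Nat.card G)) : Dom π G := by
  refine ⟨⊤, ⟨?_, ?_⟩, fun K _ => ⟨1, by simp⟩⟩
  · intro p hp hd
    rw [Subgroup.card_top] at hd
    exact h p hp hd
  · intro p hp _ hd
    rw [Subgroup.index_top] at hd
    exact absurd (Nat.dvd_one.mp hd) hp.one_lt.ne'

theorem dom_of_piN' {G : Type*} [Group G] [Finite G] (h : PiN' π (Nat.card G)) : Dom π G := by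
  refine ⟨⊥, ⟨?_, ?_⟩, fun K hK => ⟨1, ?_⟩⟩
  · intro p hp hd
    rw [Subgroup.card_bot] at hd
    exact absurd (Nat.dvd_one.mp hd) hp.one_lt.ne'
  · intro p hp hpi hd
    rw [Subgroup.index_bot] at hd
    exact h p hp hpi hd
  · have h1 : K = ⊥ := by
      rw [← Subgroup.card_eq_one]
      exact eq_one_of_both (π := π) hK (PiN'.of_dvd h (card_subgroup_dvd_card K))
    rw [h1]
    exact bot_le

theorem dom_of_prime {G : Type*} [Group G] [Finite G] (h : (Nat.card G).Prime) : Dom π G := by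
  by_cases hp : Nat.card G ∈ π
  · refine dom_of_piN fun q hq hd => ?_
    rwa [(Nat.prime_dvd_prime_iff_eq hq h).mp hd]
  · refine dom_of_piN' fun q hq hqi hd => hp ?_
    rwa [← (Nat.prime_dvd_prime_iff_eq hq h).mp hd]

theorem dom_of_comm_simple {G : Type*} [Group G] [Finite G] [hs : IsSimpleGroup G] (hab : ∀ a b : G, a * b = b * a) :
    Dom π G := by
  let _ : CommGroup G := { (inferInstance : Group G) with mul_comm := hab }
  have : IsSimpleGroup G := hs
  exact dom_of_prime IsSimpleGroup.prime_card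

/-- **A7** -/
theorem dom_comp (hquot : QuotP.{u} π) (hDB : DBP.{u} π) (hrow : Rows.{u} π) {G : Type u} [Group G] [Finite G] :
    IsDPiGroup π G ↔ IsCompositionKGroupWith (fun X _ => IsDPiGroup π X) G := by
  constructor
  · intro h H hH N hN _ _
    exact dom_iff.mpr (hquot H N (dom_subnormal hquot hDB hrow (dom_iff.mp h) hH))
  · intro h
    have h' : ∀ (H : Subgroup G), H.IsSubnormal → ∀ (S : Type u) [Group S] [IsSimpleGroup S],
        (¬ ∀ a b : S, a * b = b * a) → ∀ f : H →* S, Function.Surjective f → Dom π S := by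
      intro H hH S _ _ hna f hf
      have : Finite S := Finite.of_surjective f hf
      have e : H ⧸ f.ker ≃* S := QuotientGroup.quotientKerEquivOfSurjective f hf
      refine dom_of_equiv e (dom_iff.mp (h H hH f.ker e.isSimpleGroup ?_))
      intro hc
      apply hna
      intro a b
      apply e.symm.injective
      rw [map_mul, map_mul]
      exact hc.is_comm.comm _ _
    -- induction over subnormal subgroups
    have key : ∀ n : ℕ, ∀ H : Subgroup G, H.IsSubnormal → Nat.card H = n → Dom π H := by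
      intro n
      induction n using Nat.strong_induction_on with
      | _ n ih =>
        intro H hH hn
        by_cases h1 : Nat.card H = 1
        · exact dom_of_card_one h1
        -- a maximal normal subgroup of `H`
        obtain ⟨M, hM⟩ : ∃ M : Subgroup H, Maximal (fun M : Subgroup H => M.Normal ∧ M ≠ ⊤) M := by
          have hfin : {M : Subgroup H | M.Normal ∧ M ≠ ⊤}.Finite := Set.toFinite _
          refine hfin.exists_maximal ⟨⊥, inferInstance, ?_⟩
          intro hbt
          apply h1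
          have h2 : Nat.card (⊥ : Subgroup H) = Nat.card (⊤ : Subgroup H) := by rw [hbt]
          rwa [Subgroup.card_bot, Subgroup.card_top, eq_comm] at h2
        have hMn : M.Normal := hM.1.1
        have hsimple : IsSimpleGroup (H ⧸ M) := by
          have hnt : Nontrivial (H ⧸ M) := by
            rw [← Finite.one_lt_card_iff_nontrivial]
            have h2 : Nat.card (H ⧸ M) = M.index := rfl
            rw [h2]
            have h3 : M.index ≠ 1 := fun h => hM.1.2 (Subgroup.index_eq_one.mp h)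
            have h4 : M.index ≠ 0 := index_ne_zero_of_finite
            omega
          refine ⟨fun K hK => ?_⟩
          by_cases hK2 : K.comap (QuotientGroup.mk' M) = ⊤
          · right
            rw [eq_top_iff]
            intro x _
            obtain ⟨y, rfl⟩ := QuotientGroup.mk'_surjective M x
            have : y ∈ K.comap (QuotientGroup.mk' M) := by rw [hK2]; trivial
            exact this
          · left
            have h5 : M ≤ K.comap (QuotientGroup.mk' M) := by
              intro m hm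
              have : (QuotientGroup.mk' M) m = 1 := (QuotientGroup.eq_one_iff m).mpr hm
              show (QuotientGroup.mk' M) m ∈ K
              rw [this]; exact K.one_mem
            have h6 := hM.2 (y := K.comap (QuotientGroup.mk' M)) ⟨inferInstance, hK2⟩ h5
            rw [eq_bot_iff]
            intro x hx
            obtain ⟨y, rfl⟩ := QuotientGroup.mk'_surjective M x
            exact (QuotientGroup.eq_one_iff y).mpr (h6 hx)
        have hMG : (M.map H.subtype).IsSubnormal := hMn.isSubnormal.trans' hH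
        have hMdom : Dom π M := by
          have hlt : Nat.card (M.map H.subtype) < n := by
            rw [card_map_of_injective H.subtype_injective, ← hn]
            exact card_lt_of_ne_top M hM.1.2
          exact dom_of_equiv (M.equivMapOfInjective _ H.subtype_injective).symm (ih _ hlt _ hMG rfl)
        refine (dom_main hquot hDB hrow (G := H) M).mpr ⟨hMdom, ?_⟩
        by_cases hab : ∀ a b : H ⧸ M, a * b = b * a
        · exact dom_of_comm_simple hab
        · exact h' H hH (H ⧸ M) hab (QuotientGroup.mk' M) (QuotientGroup.mk'_surjective M)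
    exact dom_iff.mpr (dom_of_equiv (Subgroup.topEquiv (G := G)) (key _ ⊤ IsSubnormal.top rfl))

/-- the form of `D_π` in S4322 -/
theorem dom_iff_full {G : Type*} [Group G] [Finite G] :
    (((∃ X : Subgroup G, Cfsg.IsPiHall π X) ∧ ∀ X Y : Subgroup G, Cfsg.IsPiHall π X → Cfsg.IsPiHall π Y →
      (∃ g : G, Y = X.map (MulAut.conj g).toMonoidHom)) ∧
      ∀ P : Subgroup G, (∀ r : ℕ, r.Prime → r ∣ Nat.card ↥P → r ∈ π) → ∃ X : Subgroup G, Cfsg.IsPiHall π X ∧ P ≤ X) ↔
    Dom π G := by
  constructor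
  · rintro ⟨⟨⟨L, hL⟩, hc⟩, hd⟩
    refine ⟨L, hL, fun K hK => ?_⟩
    obtain ⟨X, hX, hKX⟩ := hd K hK
    obtain ⟨g, hg⟩ := hc L X hL hX
    exact ⟨g, by rw [← conj_eq, ← hg]; exact hKX⟩
  · intro h
    exact ⟨⟨h.cpi.1, h.cpi.2⟩, fun P hP => Dom.pi_le h P hP⟩

/-- S4322 from the rows -/
theorem s4322_of (hquot : QuotP.{u} π) (hDB : DBP.{u} π) (hrow : Rows.{u} π) {G : Type u} [Group G] [Finite G]
    (A : Subgroup G) [A.Normal] : (((∃ X : Subgroup G, Cfsg.IsPiHall π X) ∧ ∀ X Y : Subgroup G, Cfsg.IsPiHall π X → Cfsg.IsPiHall π Y → (∃ g : G, Y = X.map (MulAut.conj g).toMonoidHom)) ∧ ∀ P : Subgroup G, (∀ r : ℕ, r.Prime → r ∣ Nat.card ↥P → r ∈ π) → ∃ X : Subgroup G, Cfsg.IsPiHall π X ∧ P ≤ X) ↔ ((((∃ X : Subgroup ↥A, Cfsg.IsPiHall π X) ∧ ∀ X Y : Subgroup ↥A, Cfsg.IsPiHall π X → Cfsg.IsPiHall π Y → (∃ g : ↥A, Y = X.map (MulAut.conj g).toMonoidHom)) ∧ ∀ P : Subgroup ↥A, (∀ r : ℕ, r.Prime → r ∣ Nat.card ↥P → r ∈ π) → ∃ X : Subgroup ↥A, Cfsg.IsPiHall π X ∧ P ≤ X) ∧ (((∃ X : Subgroup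 (G ⧸ A), Cfsg.IsPiHall π X) ∧ ∀ X Y : Subgroup (G ⧸ A), Cfsg.IsPiHall π X → Cfsg.IsPiHall π Y → (∃ g : (G ⧸ A), Y = X.map (MulAut.conj g).toMonoidHom)) ∧ ∀ P : Subgroup (G ⧸ A), (∀ r : ℕ, r.Prime → r ∣ Nat.card ↥P → r ∈ π) → ∃ X : Subgroup (G ⧸ A), Cfsg.IsPiHall π X ∧ P ≤ X)) := by
  rw [dom_iff_full, dom_iff_full, dom_iff_full]
  exact dom_main hquot hDB hrow A

end Cfsg.Agent.H207.RV
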