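import Cfsg.Agent.H207.RV.Asm

/-!
# TEAM RV, piece A3: `D_π(G)` gives `DB` for the simple factors of a minimal normal subgroup (helper207)
-/

set_option autoImplicit false

namespace Cfsg.Agent.H207.RV

open Subgroup Cfsg Cfsg.Agent.H988.CPi Cfsg.Agent.H571.DExt Cfsg.Agent.H571.RV
open Cfsg.Agent.H553.ExtRed Cfsg.Agent.Lib.MinNormal Cfsg.Agent.Lib.MinNormalNonabelian
open scoped Pointwise

universe u

variable {π : Set ℕ} {G : Type u} [Group G] [Finite G]

/-- a Hall `π`-subgroup of `G` meets a factor of a minimal normal subgroup in a Hall `π`-subgroup -/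
theorem hall_inf {N : Subgroup G} [N.Normal] {T : Subgroup G} (hT : T ∈ minSet N) {L : Subgroup G} (hL : IsPiHall π L) :
    PiN π (Nat.card (L ⊓ T : Subgroup G)) ∧ PiN' π ((L ⊓ T).relIndex T) := by
  have hTN : T ≤ N := hT.1
  have hTn : N ≤ normalizer (T : Set G) := hT.2.2.1
  have hnorm : (T.subgroupOf N).Normal := (normal_subgroupOf_iff_le_normalizer hTN).mpr hTn
  refine ⟨PiN.of_dvd hL.1 (card_dvd_of_le inf_le_left), ?_⟩
  have h0 : IsPiHall π (L.subgroupOf N) := isPiHall_subgroupOf hL N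
  have h1 : ((L.subgroupOf N).relIndex (T.subgroupOf N)) = L.relIndex T := relIndex_subgroupOf hTN
  rw [inf_relIndex_right, ← h1]
  exact (isPiHall_subgroupOf h0 (T.subgroupOf N)).2

omit [Finite G] in
/-- a `π`-subgroup of `T` containing a Hall `π`-subgroup is equal to it -/
theorem eq_of_hall {A B T : Subgroup G} (hAB : A ≤ B) (hBT : B ≤ T) (hB : PiN π (Nat.card B))
    (hA : PiN' π (A.relIndex T)) : A = B := by
  refine le_antisymm hAB (relIndex_eq_one.mp (eq_one_of_both (π := π) ?_ ?_))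
  · exact PiN.of_dvd hB (Dvd.intro_left _ (card_mul_relIndex' hAB))
  · exact PiN'.of_dvd hA (Dvd.intro _ (relIndex_mul_relIndex A B T hAB hBT))

omit [Finite G] in
theorem isPiHall_subgroupOf_T {T H : Subgroup G} (h1 : PiN π (Nat.card H)) (h2 : PiN' π (H.relIndex T)) :
    IsPiHall π (H.subgroupOf T) :=
  ⟨PiN.of_dvd (π := π) h1 (card_comap_dvd_of_injective H T.subtype T.subtype_injective), h2⟩

/-- the transports of a Hall subgroup of a factor are the intersections of a Hall subgroup of `G` with the factors -/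
theorem exists_transport (hG : Dom π G) {N : Subgroup G} [N.Normal]
    (hmin : ∀ M : Subgroup G, M.Normal → M ≤ N → M = ⊥ ∨ M = N)
    (hna : ¬ ∀ x ∈ N, ∀ y ∈ N, Commute x y) {L : Subgroup G} (hL : IsPiHall π L) (x : minSet N → G) {T : Subgroup G}
    (hx : ∀ S : minSet N, MulAut.conj (x S) • T = S.1) {H : Subgroup G} (hHT : H ≤ T) (h1 : PiN π (Nat.card H))
    (h2 : PiN' π (H.relIndex T)) :
    ∃ g : G, ∀ S : minSet N, MulAut.conj (x S) • H = (MulAut.conj g • L) ⊓ S.1 := by
  classical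
  obtain ⟨s1, s2, s3, s4, s5, s6⟩ := nonabelian_structure N hmin hna
  have hfin : Finite (minSet N) := Set.toFinite _
  let _ : Fintype (minSet N) := Fintype.ofFinite _
  have hcomm : ∀ S T : minSet N, S ≠ T → ∀ x ∈ S.1, ∀ y ∈ T.1, Commute x y := by
    intro S T hST x hx y hy
    exact commute_of_mem s2 (fun U hU => hU.2.2.1) (fun U hU => hU.1) S.2 T.2
      (fun h => hST (Subtype.ext h)) hx hy
  have hind : iSupIndep (fun T : minSet N => T.1) := (sSupIndep_iff _).mp s2
  have hle : ∀ S : minSet N, MulAut.conj (x S) • H ≤ S.1 := fun S => by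
    rw [← hx S]; exact smul_mono_right _ hHT
  have hcH : Pairwise fun i j : minSet N => ∀ a b : G, a ∈ MulAut.conj (x i) • H → b ∈ MulAut.conj (x j) • H →
      Commute a b := fun i j hij a b ha hb => hcomm i j hij a (hle i ha) b (hle j hb)
  have hcard : Nat.card ↥(⨆ S : minSet N, MulAut.conj (x S) • H) = ∏ S : minSet N, Nat.card ↥(MulAut.conj (x S) • H) :=
    card_iSup hcH (hind.mono hle)
  have hπ : PiN π (Nat.card ↥(⨆ S : minSet N, MulAut.conj (x S) • H)) := by
    rw [hcard]
    refine piN_prod Finset.univ _ fun S _ => ?_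
    rw [Cfsg.Agent.Solvable.SZ.card_conj_smul]; exact h1
  obtain ⟨L', hL', hdom⟩ := hG
  -- `L` and `L'` are conjugate
  obtain ⟨g0, hg0⟩ := (show Dom π G from ⟨L', hL', hdom⟩).cpi.2 L L' hL hL'
  obtain ⟨g, hg⟩ := hdom _ hπ
  refine ⟨g * g0, fun S => ?_⟩
  have h3 : MulAut.conj (g * g0) • L = MulAut.conj g • L' := by
    rw [map_mul, mul_smul, hg0, conj_eq]
  rw [h3]
  refine eq_of_hall (T := S.1) (π := π) ?_ inf_le_right ?_ ?_
  · exact le_inf ((le_iSup (fun S : minSet N => MulAut.conj (x S) • H) S).trans hg) (hle S)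
  · refine PiN.of_dvd ?_ (card_dvd_of_le inf_le_left)
    rw [Cfsg.Agent.Solvable.SZ.card_conj_smul]; exact hL'.1
  · have h4 : (MulAut.conj (x S) • H).relIndex (MulAut.conj (x S) • T) = H.relIndex T := relIndex_pointwise_smul _ _ _
    rw [hx S] at h4
    rw [h4]; exact h2

/-- transitivity of the normaliser on the Hall subgroups of a factor -/
theorem exists_normalizer (hG : Dom π G) {N : Subgroup G} [N.Normal]
    (hmin : ∀ M : Subgroup G, M.Normal → M ≤ N → M = ⊥ ∨ M = N)
    (hna : ¬ ∀ x ∈ N, ∀ y ∈ N, Commute x y) {T : Subgroup G} (hT : T ∈ minSet N) {H K : Subgroup G} (hHT : H ≤ T)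
    (h1 : PiN π (Nat.card H)) (h2 : PiN' π (H.relIndex T)) (hKT : K ≤ T)
    (k1 : PiN π (Nat.card K)) (k2 : PiN' π (K.relIndex T)) :
    ∃ z ∈ normalizer (T : Set G), K = MulAut.conj z • H := by
  obtain ⟨s1, s2, s3, s4, s5, s6⟩ := nonabelian_structure N hmin hna
  obtain ⟨L, hL⟩ := hG.cpi.1
  have hx0 : ∀ S : minSet N, ∃ x : G, MulAut.conj x • T = S.1 := fun S => by
    obtain ⟨g, hg⟩ := s6 T hT S.1 S.2
    exact ⟨g, by rw [hg, conj_eq]⟩
  choose x hx using hx0
  obtain ⟨g, hg⟩ := exists_transport hG hmin hna hL x hx hHT h1 h2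
  obtain ⟨k, hk⟩ := exists_transport hG hmin hna hL x hx hKT k1 k2
  set y : G := k * g⁻¹ with hy
  set T0 : minSet N := ⟨T, hT⟩ with hT0
  have hT1' : MulAut.conj y • T ∈ minSet N := by
    rw [← conj_eq]; exact map_conj_mem_minSet hT _
  set T1 : minSet N := ⟨MulAut.conj y • T, hT1'⟩ with hT1
  have e1 : MulAut.conj y • (MulAut.conj (x T0) • H) = MulAut.conj (x T1) • K := by
    rw [hg T0, hk T1, smul_inf]
    congr 1
    rw [hy, map_mul, mul_smul, ← mul_smul (MulAut.conj g⁻¹), ← map_mul, inv_mul_cancel, map_one, one_smul]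
  refine ⟨(x T1)⁻¹ * y * x T0, ?_, ?_⟩
  · rw [mem_normalizer_iff_map_conj_eq]
    show T.map (MulAut.conj _).toMonoidHom = T
    rw [conj_eq, map_mul, map_mul, mul_smul, mul_smul, hx T0]
    show MulAut.conj (x T1)⁻¹ • (MulAut.conj y • T) = T
    have h3 : MulAut.conj y • T = MulAut.conj (x T1) • T := (hx T1).symm
    rw [h3, ← mul_smul, ← map_mul, inv_mul_cancel, map_one, one_smul]
  · rw [map_mul, map_mul, mul_smul, mul_smul, e1, ← mul_smul, ← map_mul, inv_mul_cancel, map_one, one_smul]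

/-- **A3** -/
theorem db_of_dom (hG : Dom π G) {N : Subgroup G} [N.Normal]
    (hmin : ∀ M : Subgroup G, M.Normal → M ≤ N → M = ⊥ ∨ M = N)
    (hna : ¬ ∀ x ∈ N, ∀ y ∈ N, Commute x y) {T : Subgroup G} (hT : T ∈ minSet N) : DB π T := by
  have hmap : ∀ H : Subgroup T, (H.map T.subtype).subgroupOf T = H := fun H =>
    comap_map_eq_self_of_injective T.subtype_injective H
  have hc1 : ∀ H : Subgroup T, IsPiHall π H → PiN π (Nat.card (H.map T.subtype)) := fun H hH => by
    rw [card_map_of_injective T.subtype_injective]; exact hH.1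
  have hc2 : ∀ H : Subgroup T, IsPiHall π H → PiN' π ((H.map T.subtype).relIndex T) := fun H hH => by
    show PiN' π ((H.map T.subtype).subgroupOf T).index
    rw [hmap]; exact hH.2
  refine ⟨fun K hK => ?_, T.normalizerMonoidHom.range, ?_, ?_, ?_⟩
  · obtain ⟨L, hL, hdom⟩ := hG
    obtain ⟨g, hg⟩ := hdom (K.map T.subtype) (PiN.of_dvd hK (card_map_dvd _ _))
    have hL' : IsPiHall π (MulAut.conj g • L) := isPiHall_smul hL g
    obtain ⟨h1, h2⟩ := hall_inf hT hL'
    refine ⟨((MulAut.conj g • L) ⊓ T).subgroupOf T, isPiHall_subgroupOf_T h1 h2, ?_⟩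
    intro x hx
    exact ⟨hg ⟨x, hx, rfl⟩, x.2⟩
  · rintro _ ⟨t, rfl⟩
    exact ⟨⟨t, le_normalizer t.2⟩, by ext x; rfl⟩
  · intro H K hH hK
    obtain ⟨z, hz, hzK⟩ := exists_normalizer hG hmin hna hT (map_subtype_le H) (hc1 H hH) (hc2 H hH)
      (map_subtype_le K) (hc1 K hK) (hc2 K hK)
    refine ⟨T.normalizerMonoidHom ⟨z, hz⟩, ⟨_, rfl⟩, ?_⟩
    apply map_injective T.subtype_injective
    rw [hzK, ← conj_eq, map_map, map_map]
    congr 1
  · intro H hH p hp hpi hd
    have : Fact p.Prime := ⟨hp⟩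
    -- a Sylow `p`-subgroup of the normaliser
    obtain ⟨Q⟩ : Nonempty (Sylow p (normalizer (T : Set G))) := inferInstance
    have hQπ : PiN π (Nat.card (Q.1.map (normalizer (T : Set G)).subtype)) := by
      intro q hq hd
      rw [card_map_of_injective (subtype_injective _)] at hd
      obtain ⟨k, hk⟩ := IsPGroup.iff_card.mp Q.2
      rw [hk] at hd
      rwa [(Nat.prime_dvd_prime_iff_eq hq hp).mp (hq.dvd_of_dvd_pow hd)]
    obtain ⟨L, hL, hdom⟩ := id hG
    obtain ⟨g, hg⟩ := hdom _ hQπ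
    have hL' : IsPiHall π (MulAut.conj g • L) := isPiHall_smul hL g
    obtain ⟨h1, h2⟩ := hall_inf hT hL'
    obtain ⟨z, hz, hzK⟩ := exists_normalizer hG hmin hna hT inf_le_right h1 h2 (map_subtype_le H) (hc1 H hH) (hc2 H hH)
    -- the conjugate of `Q` stabilises `H`
    set z' : normalizer (T : Set G) := ⟨z, hz⟩ with hz'
    have hle : ((MulAut.conj z' • Q.1).map T.normalizerMonoidHom) ≤ stab H ⊓ T.normalizerMonoidHom.range := by
      rintro _ ⟨y, hy, rfl⟩
      refine ⟨?_, ⟨y, rfl⟩⟩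
      rw [SetLike.mem_coe, mem_pointwise_smul_iff_inv_smul_mem] at hy
      set q : normalizer (T : Set G) := (MulAut.conj z')⁻¹ • y with hq
      have hyq : y = z' * q * z'⁻¹ := by
        rw [hq]; simp [MulAut.smul_def, ← map_inv]; group
      show T.normalizerMonoidHom y ∈ stab H
      rw [mem_stab]
      apply map_injective T.subtype_injective
      have h3 : (H.map (T.normalizerMonoidHom y : T ≃* T).toMonoidHom).map T.subtype =
          (H.map T.subtype).map (MulAut.conj (y : G)).toMonoidHom := by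
        rw [map_map, map_map]
        congr 1
      rw [h3, conj_eq, hzK]
      have h4 : MulAut.conj (q : G) • ((MulAut.conj g • L) ⊓ T) = (MulAut.conj g • L) ⊓ T := by
        rw [smul_inf]
        congr 1
        · exact Subgroup.conj_smul_eq_self_of_mem (hg ⟨q, hy, rfl⟩)
        · rw [← conj_eq]; exact mem_normalizer_iff_map_conj_eq.mp q.2
      have h5 : (y : G) = z * q * z⁻¹ := by rw [hyq]; rfl
      rw [h5, map_mul, map_mul, mul_smul, mul_smul, ← mul_smul (MulAut.conj z⁻¹), ← map_mul, inv_mul_cancel, map_one,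
        one_smul, h4]
    have hidx : ¬ p ∣ (MulAut.conj z' • Q.1).index := by
      exact (z' • Q).not_dvd_index
    apply hidx
    refine (hd.trans ?_).trans (index_map_dvd (MulAut.conj z' • Q.1) T.normalizerMonoidHom.rangeRestrict_surjective)
    have h6 : ((MulAut.conj z' • Q.1).map T.normalizerMonoidHom.rangeRestrict).index =
        ((MulAut.conj z' • Q.1).map T.normalizerMonoidHom).relIndex T.normalizerMonoidHom.range := by
      rw [relIndex]
      congr 1
      ext ⟨x, hx⟩
      rw [mem_subgroupOf]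
      constructor
      · rintro ⟨y, hy, hyx⟩
        exact ⟨y, hy, congrArg Subtype.val hyx⟩
      · rintro ⟨y, hy, hyx⟩
        exact ⟨y, hy, Subtype.ext hyx⟩
    rw [h6]
    exact relIndex_dvd_of_le_left _ (hle.trans le_sup_left)

theorem dbp : DBP.{u} π := fun _ _ _ _ _ hmin hna hG _ hT => db_of_dom hG hmin hna hT

end Cfsg.Agent.H207.RV
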