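import Cfsg.Agent.H571.RV.Pred
import Cfsg.Agent.H553.ExtRed
import Cfsg.Agent.H207.RV.Equi

/-!
# TEAM RV, pieces A4 and A5: `D_π` for direct products and for extensions by a minimal normal subgroup (helper207)

* `dom_pi` : a finite direct product of `D_π`-groups;
* `dom_factor` : the simple factors of a minimal normal subgroup;
* `dom_ext_min` : `N` non-abelian minimal normal, `Dom π N`, `Dom π (G ⧸ N)`, `RowE π T` for the simple factors `T` of `N`:
  `Dom π G`;
* `dom_ext_solv` : `N` a `p`-group.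
-/

set_option autoImplicit false

namespace Cfsg.Agent.H207.RV

open Subgroup Cfsg Cfsg.Agent.H988.CPi Cfsg.Agent.H571.DExt Cfsg.Agent.H571.RV
open Cfsg.Agent.H553.ExtRed Cfsg.Agent.Lib.MinNormal Cfsg.Agent.Lib.MinNormalNonabelian
open scoped Pointwise

universe u

variable {π : Set ℕ}

/-! ### Products -/

/-- A finite direct product of `D_π`-groups. -/
theorem dom_pi {ι : Type*} [Fintype ι] (T : ι → Type*) [∀ i, Group (T i)] [∀ i, Finite (T i)]
    (h : ∀ i, Dom π (T i)) : Dom π (∀ i, T i) := by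
  classical
  choose L hL hdom using h
  refine ⟨Subgroup.pi Set.univ L, ⟨?_, ?_⟩, ?_⟩
  · have h1 : Nat.card (Subgroup.pi Set.univ L) = ∏ i, Nat.card (L i) := by
      have e : (Subgroup.pi Set.univ L) ≃ (∀ i, L i) :=
        { toFun := fun x i => ⟨x.1 i, x.2 i (Set.mem_univ i)⟩
          invFun := fun y => ⟨fun i => y i, fun i _ => (y i).2⟩
          left_inv := fun x => rfl
          right_inv := fun y => rfl }
      rw [Nat.card_congr e, Nat.card_pi]
    intro p hp hd
    rw [h1] at hd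
    exact piN_prod Finset.univ _ (fun i _ => (hL i).1) p hp hd
  · have h1 : (Subgroup.pi Set.univ L).index = ∏ i, (L i).index := by
      have h2 := Subgroup.card_mul_index (Subgroup.pi Set.univ L)
      have h3 : Nat.card (Subgroup.pi Set.univ L) = ∏ i, Nat.card (L i) := by
        have e : (Subgroup.pi Set.univ L) ≃ (∀ i, L i) :=
          { toFun := fun x i => ⟨x.1 i, x.2 i (Set.mem_univ i)⟩
            invFun := fun y => ⟨fun i => y i, fun i _ => (y i).2⟩
            left_inv := fun x => rfl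
            right_inv := fun y => rfl }
        rw [Nat.card_congr e, Nat.card_pi]
      have h4 : Nat.card (∀ i, T i) = (∏ i, Nat.card (L i)) * ∏ i, (L i).index := by
        rw [Nat.card_pi, ← Finset.prod_mul_distrib]
        exact Finset.prod_congr rfl fun i _ => (Subgroup.card_mul_index (L i)).symm
      rw [h3, h4] at h2
      exact Nat.eq_of_mul_eq_mul_left (Finset.prod_pos fun i _ => Nat.card_pos) h2
    intro p hp hpi hd
    rw [h1] at hd
    exact piN'_prod Finset.univ _ (fun i _ => (hL i).2) p hp hpi hd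
  · intro K hK
    have h1 : ∀ i, ∃ g : T i, K.map (Pi.evalMonoidHom T i) ≤ MulAut.conj g • L i := fun i =>
      hdom i _ (PiN.of_dvd hK (card_map_dvd _ _))
    choose g hg using h1
    refine ⟨g, fun x hx => ?_⟩
    rw [mem_pointwise_smul_iff_inv_smul_mem]
    intro i _
    have h2 : x i ∈ MulAut.conj (g i) • L i := hg i ⟨x, hx, rfl⟩
    rw [mem_pointwise_smul_iff_inv_smul_mem] at h2
    exact h2

/-- `Dom` under isomorphisms. -/
theorem dom_of_equiv {G H : Type*} [Group G] [Group H] [Finite G] (e : G ≃* H) (h : Dom π G) : Dom π H := by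
  obtain ⟨L, hL, hdom⟩ := h
  have : Finite H := Finite.of_equiv G e.toEquiv
  refine ⟨L.map e.toMonoidHom, ⟨?_, ?_⟩, ?_⟩
  · have h1 : PiN π (Nat.card (L.map e.toMonoidHom)) := PiN.of_dvd hL.1 (card_map_dvd _ _)
    exact h1
  · have h1 : PiN' π (L.map e.toMonoidHom).index := PiN'.of_dvd hL.2 (index_map_dvd _ e.surjective)
    exact h1
  · intro K hK
    obtain ⟨g, hg⟩ := hdom (K.map e.symm.toMonoidHom) (PiN.of_dvd hK (card_map_dvd _ _))
    refine ⟨e g, fun x hx => ?_⟩
    have h1 : e.symm x ∈ MulAut.conj g • L := hg ⟨x, hx, rfl⟩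
    rw [mem_pointwise_smul_iff_inv_smul_mem] at h1 ⊢
    refine ⟨_, h1, ?_⟩
    simp [MulAut.smul_def, ← map_inv]

theorem card_mul_relIndex' {G : Type*} [Group G] {H K : Subgroup G} (h : H ≤ K) :
    Nat.card H * H.relIndex K = Nat.card K := by
  have h1 := Subgroup.card_mul_index (H.subgroupOf K)
  rwa [Nat.card_congr (subgroupOfEquivOfLe h).toEquiv] at h1

/-! ### The factors of a non-abelian minimal normal subgroup -/

/-- the product of `T` with its centralizer -/
def mulCent {G : Type*} [Group G] (T : Subgroup G) : Subgroup G where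
  carrier := {x | ∃ t ∈ T, ∃ c : G, (∀ s ∈ T, Commute c s) ∧ x = t * c}
  mul_mem' := by
    rintro _ _ ⟨t, ht, c, hc, rfl⟩ ⟨t', ht', c', hc', rfl⟩
    refine ⟨t * t', T.mul_mem ht ht', c * c', fun s hs => (hc s hs).mul_left (hc' s hs), ?_⟩
    have h1 : c * t' = t' * c := (hc t' ht').eq
    calc t * c * (t' * c') = t * (c * t') * c' := by group
      _ = t * (t' * c) * c' := by rw [h1]
      _ = t * t' * (c * c') := by group
  one_mem' := ⟨1, T.one_mem, 1, fun s _ => Commute.one_left s, by simp⟩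
  inv_mem' := by
    rintro _ ⟨t, ht, c, hc, rfl⟩
    refine ⟨t⁻¹, T.inv_mem ht, c⁻¹, fun s hs => (hc s hs).inv_left, ?_⟩
    rw [mul_inv_rev]
    exact ((hc t ht).inv_inv).eq

section Min

variable {G : Type u} [Group G] [Finite G]

/-- the elements of `N` are products of an element of the factor `T` and an element centralising `T` -/
theorem exists_split (N : Subgroup G) [N.Normal]
    (hmin : ∀ M : Subgroup G, M.Normal → M ≤ N → M = ⊥ ∨ M = N)
    (hna : ¬ ∀ x ∈ N, ∀ y ∈ N, Commute x y) {T : Subgroup G} (hT : T ∈ minSet N) {x : G} (hx : x ∈ N) :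
    ∃ t ∈ T, ∃ c : G, (∀ s ∈ T, Commute c s) ∧ x = t * c := by
  obtain ⟨s1, s2, s3, s4, s5, s6⟩ := nonabelian_structure N hmin hna
  have hle : N ≤ mulCent T := by
    rw [← s3]
    refine sSup_le fun S hS => ?_
    by_cases h : S = T
    · rw [h]
      exact fun y hy => ⟨y, hy, 1, fun s _ => Commute.one_left s, by simp⟩
    · intro y hy
      refine ⟨1, T.one_mem, y, fun t ht => ?_, by simp⟩
      exact commute_of_mem s2 (fun U hU => hU.2.2.1) (fun U hU => hU.1) hS hT h hy ht
  exact hle hx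

theorem dom_factor (N : Subgroup G) [N.Normal]
    (hmin : ∀ M : Subgroup G, M.Normal → M ≤ N → M = ⊥ ∨ M = N)
    (hna : ¬ ∀ x ∈ N, ∀ y ∈ N, Commute x y) (hN : Dom π N) {T : Subgroup G} (hT : T ∈ minSet N) : Dom π T := by
  have hTN : T ≤ N := hT.1
  have hTn : N ≤ normalizer (T : Set G) := hT.2.2.1
  obtain ⟨L, hL, hdom⟩ := hN
  -- the Hall subgroup of `T`
  set L' : Subgroup G := L.map N.subtype with hL'
  have hcL' : Nat.card L' = Nat.card L := card_map_of_injective N.subtype_injective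
  have hnorm : (T.subgroupOf N).Normal := (normal_subgroupOf_iff_le_normalizer hTN).mpr hTn
  have hidx : PiN' π (L'.relIndex T) := by
    have h1 : (L.relIndex (T.subgroupOf N)) = L'.relIndex T := by
      have h2 : L'.subgroupOf N = L := comap_map_eq_self_of_injective N.subtype_injective L
      rw [← h2, relIndex_subgroupOf hTN]
    rw [← h1]
    exact (isPiHall_subgroupOf hL (T.subgroupOf N)).2
  refine ⟨L'.subgroupOf T, ⟨?_, hidx⟩, ?_⟩
  · have h1 : PiN π (Nat.card (L'.subgroupOf T)) := by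
      refine PiN.of_dvd (π := π) (show PiN π (Nat.card L) from hL.1) ?_
      rw [← hcL']
      exact card_comap_dvd_of_injective L' T.subtype T.subtype_injective
    exact h1
  · intro K hK
    obtain ⟨g, hg⟩ := hdom (K.map (inclusion hTN)) (PiN.of_dvd hK (card_map_dvd _ _))
    obtain ⟨t, ht, c, hc, hgc⟩ := exists_split N hmin hna hT g.2
    refine ⟨⟨t, ht⟩, fun x hx => ?_⟩
    have h1 : (inclusion hTN x) ∈ MulAut.conj g • L := hg ⟨x, hx, rfl⟩
    rw [mem_pointwise_smul_iff_inv_smul_mem] at h1 ⊢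
    have h2 : (((MulAut.conj g)⁻¹ • (inclusion hTN x) : N) : G) = (g : G)⁻¹ * x * g := by
      simp [MulAut.smul_def, ← map_inv]
    have h3 : (((MulAut.conj (⟨t, ht⟩ : T))⁻¹ • x : T) : G) = t⁻¹ * x * t := by
      simp [MulAut.smul_def, ← map_inv]
    rw [mem_subgroupOf, h3]
    refine ⟨_, h1, ?_⟩
    show (((MulAut.conj g)⁻¹ • (inclusion hTN x) : N) : G) = _
    rw [h2, hgc]
    have h4 : t⁻¹ * x * t ∈ T := T.mul_mem (T.mul_mem (T.inv_mem ht) x.2) ht
    have h5 := (hc _ h4).eq
    calc (t * c)⁻¹ * (x : G) * (t * c) = c⁻¹ * ((t⁻¹ * x * t) * c) := by group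
      _ = c⁻¹ * (c * (t⁻¹ * x * t)) := by rw [h5]
      _ = t⁻¹ * x * t := by group

/-- the automorphism group of `T` induced by a `π`-group `P` stabilises a Hall `π`-subgroup of `T` -/
theorem exists_stable (P T : Subgroup G) (hP : PiN π (Nat.card P)) (hT : Dom π T) (hrow : RowE π T) :
    ∃ H : Subgroup G, H ≤ T ∧ PiN π (Nat.card H) ∧ PiN' π (H.relIndex T) ∧
      ∀ p ∈ P, MulAut.conj p • T = T → MulAut.conj p • H = H := by
  obtain ⟨H, hH, hst⟩ := hrow hT (((P.subgroupOf (normalizer (T : Set G))).map T.normalizerMonoidHom))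
    (PiN.of_dvd (PiN.of_dvd hP (card_comap_dvd_of_injective P _ (subtype_injective _))) (card_map_dvd _ _))
  refine ⟨H.map T.subtype, map_subtype_le H, ?_, ?_, ?_⟩
  · rw [card_map_of_injective T.subtype_injective]; exact hH.1
  · have h2 : (H.map T.subtype).subgroupOf T = H := comap_map_eq_self_of_injective T.subtype_injective H
    show PiN' π ((H.map T.subtype).subgroupOf T).index
    rw [h2]; exact hH.2
  · intro p hp hpT
    have hpn : p ∈ normalizer (T : Set G) := by
      rw [← conj_eq] at hpT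
      exact mem_normalizer_iff_map_conj_eq.mpr hpT
    have h3 : T.normalizerMonoidHom ⟨p, hpn⟩ ∈ stab H := hst ⟨⟨p, hpn⟩, hp, rfl⟩
    rw [mem_stab] at h3
    rw [← conj_eq]
    conv_rhs => rw [← h3]
    rw [map_map, map_map]
    congr 1

/-- **A5**, non-abelian case. -/
theorem dom_ext_min (N : Subgroup G) [N.Normal] (hmin : ∀ M : Subgroup G, M.Normal → M ≤ N → M = ⊥ ∨ M = N)
    (hna : ¬ ∀ x ∈ N, ∀ y ∈ N, Commute x y) (hN : Dom π N) (hQ : Dom π (G ⧸ N))
    (hrow : ∀ T ∈ minSet N, RowE π T) : Dom π G := by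
  classical
  refine dom_of_maximal (cpi_extension N hN.cpi hQ.cpi) fun P hP => hall_of_inter N hN.cpi hQ hP ?_
  obtain ⟨s1, s2, s3, s4, s5, s6⟩ := nonabelian_structure N hmin hna
  have hfin : Finite (minSet N) := Set.toFinite _
  let _ : Fintype (minSet N) := Fintype.ofFinite _
  have hcomm : ∀ S T : minSet N, S ≠ T → ∀ x ∈ S.1, ∀ y ∈ T.1, Commute x y := by
    intro S T hST x hx y hy
    exact commute_of_mem s2 (fun U hU => hU.2.2.1) (fun U hU => hU.1) S.2 T.2
      (fun h => hST (Subtype.ext h)) hx hy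
  have hind : iSupIndep (fun T : minSet N => T.1) := (sSupIndep_iff _).mp s2
  have hsup : ⨆ T : minSet N, T.1 = N := (sSup_eq_iSup' _).symm.trans s3
  -- the action of `P` on the factors
  let actΩ : MulAction P (minSet N) :=
    { smul := fun p T => ⟨MulAut.conj (p : G) • T.1, by rw [← conj_eq]; exact map_conj_mem_minSet T.2 _⟩
      one_smul := fun T => by
        apply Subtype.ext
        show MulAut.conj ((1 : P) : G) • T.1 = T.1
        simp
      mul_smul := fun p q T => by
        apply Subtype.ext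
        show MulAut.conj ((p * q : P) : G) • T.1 = MulAut.conj (p : G) • MulAut.conj (q : G) • T.1
        rw [Subgroup.coe_mul, map_mul, mul_smul] }
  let actB : MulAction P (Subgroup G) := MulAction.compHom (Subgroup G) ((MulAut.conj : G →* MulAut G).comp P.subtype)
  have hsΩ : ∀ (p : P) (T : minSet N), ((p • T : minSet N) : Subgroup G) = MulAut.conj (p : G) • T.1 := fun _ _ => rfl
  have hsB : ∀ (p : P) (H : Subgroup G), p • H = MulAut.conj (p : G) • H := fun _ _ => rfl
  obtain ⟨f, hf1, hf2⟩ := exists_equivariant (P := P) (Ω := minSet N) (B := Subgroup G)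
    (fun T H => H ≤ T.1 ∧ PiN π (Nat.card H) ∧ PiN' π (H.relIndex T.1)) (by
      rintro p T H ⟨h1, h2, h3⟩
      rw [hsΩ, hsB]
      refine ⟨smul_mono_right _ h1, ?_, ?_⟩
      · rw [Cfsg.Agent.Solvable.SZ.card_conj_smul]; exact h2
      · rw [relIndex_pointwise_smul]; exact h3) (by
      intro T
      obtain ⟨H, h1, h2, h3, h4⟩ := exists_stable P T.1 hP.1 (dom_factor N hmin hna hN T.2) (hrow T.1 T.2)
      refine ⟨H, ⟨h1, h2, h3⟩, fun p hp => ?_⟩
      exact h4 p p.2 (congrArg Subtype.val hp))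
  set H : Subgroup G := ⨆ T : minSet N, f T with hH
  have hHN : H ≤ N := (iSup_mono fun T => (hf1 T).1).trans hsup.le
  have hcH : Pairwise fun i j => ∀ x y : G, x ∈ f i → y ∈ f j → Commute x y := fun i j hij x y hx hy =>
    hcomm i j hij x ((hf1 i).1 hx) y ((hf1 j).1 hy)
  have hcT : Pairwise fun i j : minSet N => ∀ x y : G, x ∈ i.1 → y ∈ j.1 → Commute x y := fun i j hij x y hx hy =>
    hcomm i j hij x hx y hy
  have hcardH : Nat.card H = ∏ T : minSet N, Nat.card (f T) := card_iSup hcH (hind.mono fun T => (hf1 T).1)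
  have hcardN : Nat.card N = ∏ T : minSet N, Nat.card T.1 := by
    have e0 : Nat.card N = Nat.card ↥(⨆ T : minSet N, T.1) := by rw [hsup]
    rw [e0, card_iSup hcT hind]
  have hHπ : PiN π (Nat.card H) := by
    rw [hcardH]; exact piN_prod Finset.univ _ fun T _ => (hf1 T).2.1
  have hrel : H.relIndex N = ∏ T : minSet N, (f T).relIndex T.1 := by
    have h1 := card_mul_relIndex' hHN
    rw [hcardN, hcardH] at h1
    have h2 : ∏ T : minSet N, Nat.card T.1 = (∏ T : minSet N, Nat.card (f T)) * ∏ T : minSet N, (f T).relIndex T.1 := by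
      rw [← Finset.prod_mul_distrib]
      exact Finset.prod_congr rfl fun T _ => (card_mul_relIndex' (hf1 T).1).symm
    rw [h2] at h1
    exact Nat.eq_of_mul_eq_mul_left (Finset.prod_pos fun T _ => Nat.card_pos) h1
  have hHn : P ≤ normalizer (H : Set G) := by
    intro p hp
    rw [mem_normalizer_iff_map_conj_eq]
    show H.map (MulAut.conj p).toMonoidHom = H
    rw [hH, Subgroup.map_iSup]
    have h1 : ∀ T : minSet N, (f T).map (MulAut.conj p).toMonoidHom = f ((⟨p, hp⟩ : P) • T) := fun T => by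
      rw [conj_eq, hf2 ⟨p, hp⟩ T]
      rfl
    rw [iSup_congr h1]
    exact (MulAction.toPerm (⟨p, hp⟩ : P)).iSup_comp (g := f)
  have hHP : H ≤ P := le_of_maximal hP hHn hHπ
  refine PiN'.of_dvd (π := π) (m := (P ⊓ N).relIndex N) (n := H.relIndex N) ?_ (relIndex_dvd_of_le_left N (le_inf hHP hHN))
  rw [hrel]
  exact piN'_prod Finset.univ _ fun T _ => (hf1 T).2.2

/-! ### Normal `π`-subgroups and normal `π'`-subgroups -/

theorem cpi_of_pi' {N : Type*} [Group N] [Finite N] (h : PiN' π (Nat.card N)) : IsCPiGroup π N := by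
  have key : ∀ H : Subgroup N, IsPiHall π H → H = ⊥ := by
    intro H hH
    rw [← Subgroup.card_eq_one]
    exact eq_one_of_both (π := π) hH.1 (PiN'.of_dvd h (card_subgroup_dvd_card H))
  refine ⟨⟨⊥, ?_, ?_⟩, fun H K hH hK => ⟨1, ?_⟩⟩
  · intro p hp hd
    rw [Subgroup.card_bot] at hd
    exact absurd (Nat.dvd_one.mp hd) hp.one_lt.ne'
  · intro p hp hpi hd
    rw [Subgroup.index_bot] at hd
    exact h p hp hpi hd
  · rw [key H hH, key K hK, Subgroup.map_bot]

/-- extensions of normal `π'`-subgroups -/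
theorem dom_ext_pi' (N : Subgroup G) [N.Normal] (h : PiN' π (Nat.card N)) (hQ : Dom π (G ⧸ N)) : Dom π G := by
  have hC : IsCPiGroup π N := cpi_of_pi' h
  refine dom_of_maximal (cpi_extension N hC hQ.cpi) fun P hP => hall_of_inter N hC hQ hP ?_
  exact PiN'.of_dvd h (index_dvd_card _)

/-- extensions of normal `π`-subgroups -/
theorem dom_ext_piN (N : Subgroup G) [N.Normal] (h : PiN π (Nat.card N)) (hQ : Dom π (G ⧸ N)) : Dom π G := by
  have hC : IsCPiGroup π N := PiGrp.cpi (S := N) h
  refine dom_of_maximal (cpi_extension N hC hQ.cpi) fun P hP => ?_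
  obtain ⟨h1, h2⟩ := maximal_map_mk N h hP
  have h3 := hQ.maximal_hall h2
  refine ⟨hP.1, ?_⟩
  have h4 : (P.map (QuotientGroup.mk' N)).index = P.index :=
    index_map_eq _ (QuotientGroup.mk'_surjective N) (by rw [QuotientGroup.ker_mk']; exact h1)
  rw [← h4]
  exact h3.2

/-- **A5**, abelian case: `N` a normal `p`-subgroup. -/
theorem dom_ext_pgroup (N : Subgroup G) [N.Normal] {p : ℕ} (hp : p.Prime) (h : IsPGroup p N) (hQ : Dom π (G ⧸ N)) :
    Dom π G := by
  have : Fact p.Prime := ⟨hp⟩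
  obtain ⟨k, hk⟩ := IsPGroup.iff_card.mp h
  by_cases hpi : p ∈ π
  · refine dom_ext_piN N ?_ hQ
    intro q hq hd
    rw [hk] at hd
    rwa [(Nat.prime_dvd_prime_iff_eq hq hp).mp (hq.dvd_of_dvd_pow hd)]
  · refine dom_ext_pi' N ?_ hQ
    intro q hq hqi hd
    rw [hk] at hd
    rw [(Nat.prime_dvd_prime_iff_eq hq hp).mp (hq.dvd_of_dvd_pow hd)] at hqi
    exact hpi hqi

/-- **A4 + A5**: `N` minimal normal, the simple factors satisfy `Dom` and `RowE`. -/
theorem dom_ext_minimal (N : Subgroup G) [N.Normal] (hne : N ≠ ⊥)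
    (hmin : ∀ M : Subgroup G, M.Normal → M ≤ N → M = ⊥ ∨ M = N)
    (hN : Dom π N) (hQ : Dom π (G ⧸ N))
    (hrow : ∀ T : Subgroup G, IsSimpleGroup T → (∃ a b : T, a * b ≠ b * a) → RowE π T) : Dom π G := by
  by_cases hab : ∀ x ∈ N, ∀ y ∈ N, Commute x y
  · obtain ⟨p, hp, hpN, -⟩ := abelian_structure N hne hmin hab
    exact dom_ext_pgroup N hp hpN hQ
  · refine dom_ext_min N hmin hab hN hQ fun T hT => ?_
    obtain ⟨s1, s2, s3, s4, s5, s6⟩ := nonabelian_structure N hmin hab
    refine hrow T (s4 T hT) ?_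
    by_contra hcon
    push Not at hcon
    apply hT.2.1
    rw [eq_bot_iff]
    intro z hz
    exact s5 T hT z hz fun t ht => congrArg Subtype.val (hcon ⟨z, hz⟩ ⟨t, ht⟩)

/-- **A4** for a minimal normal subgroup. -/
theorem dom_min_of_factors (N : Subgroup G) [N.Normal] (hne : N ≠ ⊥)
    (hmin : ∀ M : Subgroup G, M.Normal → M ≤ N → M = ⊥ ∨ M = N)
    (h : ∀ T : Subgroup G, IsSimpleGroup T → (∃ a b : T, a * b ≠ b * a) → T ∈ minSet N → Dom π T) : Dom π N := by
  classical
  by_cases hab : ∀ x ∈ N, ∀ y ∈ N, Commute x y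
  · obtain ⟨p, hp, hpN, -⟩ := abelian_structure N hne hmin hab
    have h1 : IsPGroup p (⊤ : Subgroup N) := hpN.of_injective (⊤ : Subgroup N).subtype (subtype_injective _)
    have hQ : Dom π (N ⧸ (⊤ : Subgroup N)) := by
      have hs : Subsingleton (N ⧸ (⊤ : Subgroup N)) := QuotientGroup.subsingleton_quotient_top
      have h2 : Nat.card (N ⧸ (⊤ : Subgroup N)) = 1 := Nat.card_unique
      refine ⟨⊤, ⟨?_, ?_⟩, fun K _ => ⟨1, by simp⟩⟩
      · intro p hp hd
        rw [Subgroup.card_top, h2] at hd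
        exact absurd (Nat.dvd_one.mp hd) hp.one_lt.ne'
      · intro p hp _ hd
        rw [Subgroup.index_top] at hd
        exact absurd (Nat.dvd_one.mp hd) hp.one_lt.ne'
    exact dom_ext_pgroup (⊤ : Subgroup N) hp h1 hQ
  · obtain ⟨s1, s2, s3, s4, s5, s6⟩ := nonabelian_structure N hmin hab
    have hfin : Finite (minSet N) := Set.toFinite _
    let _ : Fintype (minSet N) := Fintype.ofFinite _
    have hcomm : Pairwise fun i j : minSet N => ∀ x y : G, x ∈ i.1 → y ∈ j.1 → Commute x y := by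
      intro S T hST x y hx hy
      exact commute_of_mem s2 (fun U hU => hU.2.2.1) (fun U hU => hU.1) S.2 T.2
        (fun h => hST (Subtype.ext h)) hx hy
    obtain ⟨e⟩ := mulEquiv_pi_of_iSupIndep (K := N) (fun T : minSet N => T.1) hcomm ((sSupIndep_iff _).mp s2)
      ((sSup_eq_iSup' _).symm.trans s3)
    refine dom_of_equiv e.symm (dom_pi (fun T : minSet N => T.1) fun T => ?_)
    refine h T.1 (s4 T.1 T.2) ?_ T.2
    by_contra hcon
    push Not at hcon
    apply T.2.2.1
    rw [eq_bot_iff]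
    intro z hz
    exact s5 T.1 T.2 z hz fun t ht => congrArg Subtype.val (hcon ⟨z, hz⟩ ⟨t, ht⟩)

end Min

end Cfsg.Agent.H207.RV
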