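import Cfsg.Agent.H207.RV.DBProof
import Cfsg.Agent.H808.RV.Quot

/-!
# TEAM RV: S4322 and S3850 from the rows only (helper207)

`quotP` (A2, helper808) and `dbp` (A3) are proved, so only `Rows π` remains.
-/

set_option autoImplicit false

namespace Cfsg.Agent.H207.RV

open Subgroup Cfsg Cfsg.Agent.H988.CPi Cfsg.Agent.H571.DExt Cfsg.Agent.H571.RV

universe u

variable {π : Set ℕ}

theorem quotP : QuotP.{u} π := fun _ _ _ A _ h => Cfsg.Agent.H808.RV.dom_quot A h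

theorem dom_iff_of_rows (hrow : Rows.{u} π) {G : Type u} [Group G] [Finite G] (A : Subgroup G) [A.Normal] :
    Dom π G ↔ Dom π A ∧ Dom π (G ⧸ A) := dom_main quotP dbp hrow A

/-- S3850 from the rows -/
theorem s3850_of_rows (hrow : Rows.{u} π) {G : Type u} [Group G] [Finite G] :
    IsDPiGroup π G ↔ IsCompositionKGroupWith (fun X _ => IsDPiGroup π X) G := dom_comp quotP dbp hrow

/-- S4322 from the rows -/
theorem s4322_of_rows (hrow : Rows.{u} π) {G : Type u} [Group G] [Finite G]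
    (A : Subgroup G) [A.Normal] : (((∃ X : Subgroup G, Cfsg.IsPiHall π X) ∧ ∀ X Y : Subgroup G, Cfsg.IsPiHall π X → Cfsg.IsPiHall π Y → (∃ g : G, Y = X.map (MulAut.conj g).toMonoidHom)) ∧ ∀ P : Subgroup G, (∀ r : ℕ, r.Prime → r ∣ Nat.card ↥P → r ∈ π) → ∃ X : Subgroup G, Cfsg.IsPiHall π X ∧ P ≤ X) ↔ ((((∃ X : Subgroup ↥A, Cfsg.IsPiHall π X) ∧ ∀ X Y : Subgroup ↥A, Cfsg.IsPiHall π X → Cfsg.IsPiHall π Y → (∃ g : ↥A, Y = X.map (MulAut.conj g).toMonoidHom)) ∧ ∀ P : Subgroup ↥A, (∀ r : ℕ, r.Prime → r ∣ Nat.card ↥P → r ∈ π) → ∃ X : Subgroup ↥A, Cfsg.IsPiHall π X ∧ P ≤ X) ∧ (((∃ X : Subgroup (G ⧸ A), Cfsg.IsPiHall π X) ∧ ∀ X Y : Subgroup (G ⧸ A), Cfsg.IsPiHall π X → Cfsg.IsPiHall π Y → (∃ g : (G ⧸ A), Y = X.map (MulAut.conj g).toMonoidHom)) ∧ ∀ P : Subgroup (G ⧸ A), (∀ r : ℕ, r.Prime → r ∣ Nat.card ↥P → r ∈ π) → ∃ X : Subgroup (G ⧸ A), Cfsg.IsPiHall π X ∧ P ≤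 X)) :=
  s4322_of quotP dbp hrow A

end Cfsg.Agent.H207.RV
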