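import Cfsg.Agent.H207.RV.Final
import Cfsg.Agent.H571.RM.Pred

/-!
# S3849 from S4322 and the rows `RowM` of the simple groups (helper207)
-/

set_option autoImplicit false

namespace Cfsg.Agent.H207.RV

open Subgroup Cfsg Cfsg.Agent.H988.CPi Cfsg.Agent.H571.DExt Cfsg.Agent.H571.RV Cfsg.Agent.H571.RM
open scoped Pointwise

universe u

variable {π : Set ℕ}

/-- S4322 -/
def ExtP (π : Set ℕ) : Prop :=
  ∀ (G : Type u) [Group G] [Finite G] (A : Subgroup G) [A.Normal], Dom π G ↔ Dom π A ∧ Dom π (G ⧸ A)

theorem extP_of_rows (h : Rows.{u} π) : ExtP.{u} π := fun _ _ _ A _ => dom_iff_of_rows h A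

/-- heredity is closed under extensions -/
theorem her_ext (hx : ExtP.{u} π) {G : Type u} [Group G] [Finite G] (A : Subgroup G) [A.Normal]
    (hA : Her π A) (hQ : Her π (G ⧸ A)) : Her π G := by
  intro hG H M hH hHM
  obtain ⟨hDA, hDQ⟩ := (hx G A).mp hG
  refine (hx M (A.subgroupOf M)).mpr ⟨?_, ?_⟩
  · have h1 : Dom π (M.subgroupOf A) := hA hDA (H.subgroupOf A) (M.subgroupOf A) (isPiHall_subgroupOf hH A)
      (fun x hx => hHM hx)
    have e : (M.subgroupOf A) ≃* (A.subgroupOf M) :=
      { toFun := fun x => ⟨⟨x.1.1, x.2⟩, x.1.2⟩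
        invFun := fun x => ⟨⟨x.1.1, x.2⟩, x.1.2⟩
        left_inv := fun _ => rfl
        right_inv := fun _ => rfl
        map_mul' := fun _ _ => rfl }
    exact dom_of_equiv e h1
  · have h1 : Dom π (M.map (QuotientGroup.mk' A)) := hQ hDQ _ _ (isPiHall_map_mk hH A) (map_mono hHM)
    exact dom_of_equiv (quotMap M A).symm h1

theorem her_of_card_prime {G : Type*} [Group G] [Finite G] (h : (Nat.card G).Prime) : Her π G := by
  intro _ _ M _ _
  rcases (Nat.dvd_prime h).mp (card_subgroup_dvd_card M) with h1 | h1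
  · exact dom_of_card_one h1
  · exact dom_of_prime (by rw [h1]; exact h)

theorem her_of_card_one {G : Type*} [Group G] [Finite G] (h : Nat.card G = 1) : Her π G := by
  intro _ _ M _ _
  refine dom_of_card_one (Nat.dvd_one.mp ?_)
  rw [← h]
  exact card_subgroup_dvd_card M

/-- **P0** : all finite groups are hereditary if the simple groups satisfy `RowM` -/
theorem her_all (hx : ExtP.{u} π)
    (hrow : ∀ (S : Type u) [Group S] [Finite S] [IsSimpleGroup S], (∃ a b : S, a * b ≠ b * a) → RowM π S) (n : ℕ) :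
    ∀ (G : Type u) [Group G] [Finite G], Nat.card G = n → Her π G := by
  induction n using Nat.strong_induction_on with
  | _ n ih =>
    intro G _ _ hn
    by_cases h1 : Nat.card G = 1
    · exact her_of_card_one h1
    by_cases hs : ∀ A : Subgroup G, A.Normal → A = ⊥ ∨ A = ⊤
    · have hnt : Nontrivial G := by
        rw [← Finite.one_lt_card_iff_nontrivial]
        have := Nat.card_pos (α := G)
        omega
      have hsimple : IsSimpleGroup G := ⟨fun A hA => hs A hA⟩
      by_cases hab : ∀ a b : G, a * b = b * a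
      · refine her_of_card_prime ?_
        let _ : CommGroup G := { (inferInstance : Group G) with mul_comm := hab }
        have : IsSimpleGroup G := hsimple
        exact IsSimpleGroup.prime_card
      · push Not at hab
        refine hrow G hab fun L hL => ih (Nat.card L) ?_ L rfl
        rw [← hn]
        exact card_lt_of_ne_top L hL
    · push Not at hs
      obtain ⟨A, hA, hA1, hA2⟩ := hs
      refine her_ext hx A (ih _ ?_ A rfl) (ih _ ?_ (G ⧸ A) rfl)
      · rw [← hn]; exact card_lt_of_ne_top A hA2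
      · rw [← hn]; exact card_quot_lt A hA1

/-- **S3849** from S4322 and the rows -/
theorem s3849_of (hx : ExtP.{u} π)
    (hrow : ∀ (S : Type u) [Group S] [Finite S] [IsSimpleGroup S], (∃ a b : S, a * b ≠ b * a) → RowM π S)
    {G : Type u} [Group G] [Finite G] (hD : Cfsg.IsDPiGroup π G) (H M : Subgroup G) (hH : Cfsg.IsPiHall π H)
    (hHM : H ≤ M) : Cfsg.IsDPiGroup π ↥M :=
  dom_iff.mpr (her_all hx hrow _ G rfl (dom_iff.mp hD) H M hH hHM)

end Cfsg.Agent.H207.RV
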